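import Mathlib
import Groth.Agent.CatLib.Flat
import Groth.Agent.CommAlgDim.Regular
import Groth.Agent.NormalLib.Regular
import Groth.Prelude.Def_EGA4b

set_option autoImplicit false
set_option linter.style.haveILetI false
universe u

open IsLocalRing EGA4 nonZeroDivisors

/-! Hironaka lemma (EGA IV 5.12.8). -/

namespace HironakaAux

variable {A : Type u} [CommRing A] [IsNoetherianRing A] [IsLocalRing A]

theorem exists_dim (P : Ideal A) [P.IsPrime] :
    ∃ n : ℕ, ringKrullDim (A ⧸ P) = n := by
  haveI := Ideal.Quotient.nontrivial_iff.2 (Ideal.IsPrime.ne_top (I := P) inferInstance)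
  haveI : IsLocalRing (A ⧸ P) := EGA4.isLocalRing_quotient A P
  exact CommAlgDim.exists_ringKrullDim_eq

theorem exists_height (P : Ideal A) [P.IsPrime] : ∃ n : ℕ, P.height = n :=
  (ENat.ne_top_iff_exists.1 (Ideal.height_ne_top (Ideal.IsPrime.ne_top (I := P) inferInstance))).imp fun _ h => h.symm

theorem dim_add_height (heq : IsEquidim A) (hcat : CAlg.IsCatenary A) {P : Ideal A} [P.IsPrime]
    {n h d : ℕ} (hn : ringKrullDim (A ⧸ P) = n) (hh : P.height = h) (hd : ringKrullDim A = d) : n + h = d := by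
  have := CatLib.ringKrullDim_quotient_add_height_of_equidim heq hcat P
  rw [hn, hh, hd] at this
  exact_mod_cast this

theorem dim_quotient_add_height (hcat : CAlg.IsCatenary A) {q M : Ideal A} [q.IsPrime] [M.IsPrime]
    (hqM : q ≤ M) {m h n : ℕ} (hm : ringKrullDim (A ⧸ M) = m) (hh : (M.map (Ideal.Quotient.mk q)).height = h)
    (hn : ringKrullDim (A ⧸ q) = n) : m + h = n := by
  haveI := Ideal.Quotient.nontrivial_iff.2 (Ideal.IsPrime.ne_top (I := q) inferInstance)
  haveI : IsLocalRing (A ⧸ q) := EGA4.isLocalRing_quotient A q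
  haveI : (M.map (Ideal.Quotient.mk q)).IsPrime :=
    Ideal.map_isPrime_of_surjective Ideal.Quotient.mk_surjective (by rw [Ideal.mk_ker]; exact hqM)
  have := CatLib.ringKrullDim_quotient_add_height_of_domain (CatLib.isCatenary_quotient q hcat)
    (M.map (Ideal.Quotient.mk q))
  rw [CatLib.ringKrullDim_quotient_quotient_map hqM, hm, hh, hn] at this
  exact_mod_cast this

/-- Cutting a prime quotient by one element lowers the dimension by one. -/
theorem dim_succ (hcat : CAlg.IsCatenary A) {q M : Ideal A} [q.IsPrime] {t : A} (ht : t ∉ q)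
    (hM : M ∈ (q ⊔ Ideal.span {t}).minimalPrimes) {m n : ℕ} (hm : ringKrullDim (A ⧸ M) = m)
    (hn : ringKrullDim (A ⧸ q) = n) : m + 1 = n := by
  haveI : M.IsPrime := hM.1.1
  have hqM : q ≤ M := le_sup_left.trans hM.1.2
  refine dim_quotient_add_height hcat hqM hm (le_antisymm ?_ ?_) hn
  · exact_mod_cast Ideal.map_height_le_one_of_mem_minimalPrimes hM
  · haveI : (M.map (Ideal.Quotient.mk q)).IsPrime :=
      Ideal.map_isPrime_of_surjective Ideal.Quotient.mk_surjective (by rw [Ideal.mk_ker]; exact hqM)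
    rw [Nat.cast_one]
    refine Order.one_le_iff_ne_zero.2 fun h0 => ht ?_
    rw [Ideal.height_eq_zero_iff_eq_bot] at h0
    have h1 : Ideal.Quotient.mk q t ∈ M.map (Ideal.Quotient.mk q) :=
      Ideal.mem_map_of_mem _ (hM.1.2 (Ideal.mem_sup_right (Ideal.mem_span_singleton_self t)))
    rw [h0, Ideal.mem_bot, Ideal.Quotient.eq_zero_iff_mem] at h1
    exact h1

variable {t : A} {p : Ideal A} [p.IsPrime]

theorem mem_p (hp : (Ideal.span {t}).minimalPrimes = {p}) : t ∈ p :=
  (hp.symm ▸ Set.mem_singleton p : p ∈ (Ideal.span {t}).minimalPrimes).1.2 (Ideal.mem_span_singleton_self t)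

theorem p_le (hp : (Ideal.span {t}).minimalPrimes = {p}) {Q : Ideal A} [Q.IsPrime] (h : t ∈ Q) : p ≤ Q := by
  obtain ⟨P, hP, hPQ⟩ := Ideal.exists_minimalPrimes_le (I := Ideal.span {t}) (J := Q)
    ((Ideal.span_singleton_le_iff_mem _).2 h)
  rw [hp, Set.mem_singleton_iff] at hP
  exact hP ▸ hPQ

theorem height_p (hreg : t ∈ A⁰) (hp : (Ideal.span {t}).minimalPrimes = {p}) : p.height = 1 := by
  refine le_antisymm (Ideal.height_le_one_of_isPrincipal_of_mem_minimalPrimes (Ideal.span {t}) p
    (hp.symm ▸ Set.mem_singleton p)) ?_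
  exact (Ideal.one_le_height_span_singleton_of_mem_nonZeroDivisors hreg).trans
    (Ideal.height_mono ((Ideal.span_singleton_le_iff_mem _).2 (mem_p hp)))

theorem le_p (hcat : CAlg.IsCatenary A) (heq : IsEquidim A) (hreg : t ∈ A⁰) (htm : t ∈ maximalIdeal A)
    (hp : (Ideal.span {t}).minimalPrimes = {p}) {q : Ideal A} (hq : q ∈ minimalPrimes A) : q ≤ p := by
  haveI : q.IsPrime := hq.1.1
  have htq : t ∉ q := fun h => Set.disjoint_left.1 (Ideal.disjoint_nonZeroDivisors_of_mem_minimalPrimes hq) h hreg
  obtain ⟨P, hP, -⟩ := Ideal.exists_minimalPrimes_le (I := q ⊔ Ideal.span {t}) (J := maximalIdeal A)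
    (sup_le (le_maximalIdeal (Ideal.IsPrime.ne_top inferInstance)) ((Ideal.span_singleton_le_iff_mem _).2 htm))
  haveI : P.IsPrime := hP.1.1
  obtain ⟨d, hd⟩ := CommAlgDim.exists_ringKrullDim_eq (R := A)
  obtain ⟨m, hm⟩ := exists_dim P
  obtain ⟨h, hh⟩ := exists_height P
  have h1 := dim_succ hcat htq hP hm ((heq q hq).trans hd)
  have h2 := dim_add_height heq hcat hm hh hd
  have hpP : p ≤ P := p_le hp (hP.1.2 (Ideal.mem_sup_right (Ideal.mem_span_singleton_self t)))
  haveI : p.FiniteHeight := inferInstance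
  have hP1 : P.height ≤ p.height := by
    rw [hh, height_p hreg hp]
    exact_mod_cast (show h ≤ 1 by omega)
  exact (Ideal.eq_of_le_of_height_le _ hpP hP1).symm ▸ (le_sup_left.trans hP.1.2)

theorem isRegular_localization_p (hreg : t ∈ A⁰) (hp : (Ideal.span {t}).minimalPrimes = {p})
    (hgen : maximalIdeal (Localization.AtPrime p) = Ideal.span {algebraMap A (Localization.AtPrime p) t}) :
    IsRegularLocalRing (Localization.AtPrime p) := by
  refine IsRegularLocalRing.of_spanFinrank_maximalIdeal_le _ ?_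
  rw [IsLocalization.AtPrime.ringKrullDim_eq_height p (Localization.AtPrime p), height_p hreg hp, hgen]
  exact_mod_cast (Submodule.spanFinrank_span_le_ncard_of_finite (Set.finite_singleton _)).trans_eq
    (Set.ncard_singleton _)

theorem isDomain (hcat : CAlg.IsCatenary A) [IsReduced A] (heq : IsEquidim A) (hreg : t ∈ A⁰)
    (htm : t ∈ maximalIdeal A) (hp : (Ideal.span {t}).minimalPrimes = {p})
    (hgen : maximalIdeal (Localization.AtPrime p) = Ideal.span {algebraMap A (Localization.AtPrime p) t}) :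
    IsDomain A := by
  haveI := isRegular_localization_p hreg hp hgen
  haveI : IsDomain (Localization.AtPrime p) := CommAlgDim.isDomain_of_isRegularLocalRing _
  refine Function.Injective.isDomain (algebraMap A (Localization.AtPrime p)) ((injective_iff_map_eq_zero _).2 fun a ha => ?_)
  obtain ⟨s, hs⟩ := (IsLocalization.map_eq_zero_iff p.primeCompl _ a).1 ha
  have : a ∈ sInf (minimalPrimes A) := Submodule.mem_sInf.2 fun q hq =>
    (hq.1.1.mem_or_mem ((hs.symm ▸ q.zero_mem) : (s : A) * a ∈ q)).resolve_left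
      fun hsq => s.2 (le_p hcat heq hreg htm hp hq hsq)
  have h0 : sInf (minimalPrimes A) = ⊥ := by
    rw [show minimalPrimes A = (⊥ : Ideal A).minimalPrimes from rfl, Ideal.sInf_minimalPrimes]
    exact nilradical_eq_zero A
  rwa [h0, Ideal.mem_bot] at this

section Hull

variable [IsDomain A]

/-- Transport of the finiteness of `A^(1)` along a ring isomorphism. -/
theorem hullFinite_of_ringEquiv {A' : Type u} [CommRing A'] [IsDomain A'] (e : A ≃+* A')
    (h : HeightOneHullFinite A') : HeightOneHullFinite A := by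
  obtain ⟨B', hB', hfin⟩ := h
  let φ : FractionRing A ≃+* FractionRing A' := IsFractionRing.ringEquivOfRingEquiv e
  have hφ : ∀ a, φ (algebraMap A (FractionRing A) a) = algebraMap A' (FractionRing A') (e a) := fun a =>
    IsFractionRing.ringEquivOfRingEquiv_algebraMap e a
  have hmem : ∀ x, φ x ∈ B' ↔ x ∈ heightOneHull A := by
    intro x
    rw [← SetLike.mem_coe, hB']
    constructor
    · intro hx P hP hP1
      haveI : (P.map e).IsPrime := Ideal.map_isPrime_of_equiv e
      obtain ⟨s, hs, a, ha⟩ := hx (P.map e) (by rw [e.height_map]; exact hP1)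
      refine ⟨e.symm s, fun h => hs ?_, e.symm a, φ.injective ?_⟩
      · simpa using Ideal.mem_map_of_mem e h
      · rw [map_mul, hφ, hφ, e.apply_symm_apply, e.apply_symm_apply, ha]
    · intro hx P hP hP1
      haveI : (P.comap e).IsPrime := Ideal.comap_isPrime e P
      obtain ⟨s, hs, a, ha⟩ := hx (P.comap e) (by rw [e.height_comap]; exact hP1)
      exact ⟨e s, hs, e a, by rw [← hφ, ha, map_mul, hφ]⟩
  let B : Subalgebra A (FractionRing A) :=
    { B'.toSubsemiring.comap φ.toRingHom with
      algebraMap_mem' := fun a => by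
        show φ (algebraMap A (FractionRing A) a) ∈ B'
        rw [hφ]; exact B'.algebraMap_mem _ }
  refine ⟨B, Set.ext hmem, ?_⟩
  obtain ⟨S, hS⟩ := Module.finite_def.1 hfin
  classical
  refine Module.Finite.iff_fg.2 (⟨S.image fun b : B' => φ.symm (b : FractionRing A'), le_antisymm ?_ ?_⟩ : (Subalgebra.toSubmodule B).FG)
  · rw [Submodule.span_le]
    intro x hx
    simp only [Finset.coe_image, Set.mem_image] at hx
    obtain ⟨b, -, rfl⟩ := hx
    show φ (φ.symm _) ∈ B'
    rw [φ.apply_symm_apply]; exact b.2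
  · intro x hx
    have key : ∀ b : B', b ∈ Submodule.span A' (S : Set B') →
        φ.symm (b : FractionRing A') ∈
          Submodule.span A ((S.image fun b : B' => φ.symm (b : FractionRing A') : Finset (FractionRing A)) : Set (FractionRing A)) := by
      intro b hb
      induction hb using Submodule.span_induction with
      | mem b hb =>
        refine Submodule.subset_span ?_
        simp only [Finset.coe_image, Set.mem_image]
        exact ⟨b, hb, rfl⟩
      | zero => simp
      | add b c _ _ ihb ihc => rw [Subalgebra.coe_add, map_add]; exact add_mem ihb ihc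
      | smul r b _ ih =>
        rw [Subalgebra.coe_smul, Algebra.smul_def, map_mul,
          show φ.symm (algebraMap A' (FractionRing A') r) = algebraMap A (FractionRing A) (e.symm r) from
            φ.injective (by rw [φ.apply_symm_apply, hφ, e.apply_symm_apply]), ← Algebra.smul_def]
        exact Submodule.smul_mem _ _ ih
    have := key ⟨φ x, hx⟩ (hS ▸ Submodule.mem_top)
    simpa using this

theorem span_eq_and_hull (hreg : t ∈ A⁰) (htm : t ∈ maximalIdeal A)
    (hp : (Ideal.span {t}).minimalPrimes = {p})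
    (hgen : maximalIdeal (Localization.AtPrime p) = Ideal.span {algebraMap A (Localization.AtPrime p) t})
    [IsIntegrallyClosed (A ⧸ p)] (hfin : HeightOneHullFinite A) :
    heightOneHull A ⊆ Set.range (algebraMap A (FractionRing A)) ∧ p = Ideal.span {t} := by
  obtain ⟨B, hB, hBfin⟩ := hfin
  let f := algebraMap A (Localization.AtPrime p)
  let g := algebraMap A (FractionRing A)
  let ι := algebraMap (Localization.AtPrime p) (FractionRing A)
  have hι : ∀ a, ι (f a) = g a := fun a => (IsScalarTower.algebraMap_apply A _ _ a).symm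
  have hιinj : Function.Injective ι := IsFractionRing.injective _ _
  have ht0 : t ≠ 0 := nonZeroDivisors.ne_zero hreg
  have hp1 := height_p hreg hp
  have hdiv : ∀ y, algebraMap A (FractionRing A) t * ι y ∈ B → ι y ∈ B := by
    intro y hy
    rw [← SetLike.mem_coe, hB] at hy ⊢
    intro P hP hP1
    by_cases htP : t ∈ P
    · haveI : p.FiniteHeight := inferInstance
      obtain rfl : p = P := Ideal.eq_of_le_of_height_le _ (p_le hp htP) (by rw [hp1, hP1])
      obtain ⟨⟨a, s⟩, hay⟩ := IsLocalization.surj p.primeCompl y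
      exact ⟨s, s.2, a, show g a = g s * ι y by rw [← hι, ← hι, ← map_mul, ← hay, mul_comm]⟩
    · obtain ⟨s, hs, a, ha⟩ := hy P hP1
      exact ⟨s * t, hP.mul_notMem hs htP, a, by rw [ha, map_mul, mul_assoc]⟩
  have hBp : ∀ x ∈ B, ∃ y, ι y = x := by
    intro x hx
    rw [← SetLike.mem_coe, hB] at hx
    obtain ⟨s, hs, a, ha⟩ := hx p hp1
    refine ⟨IsLocalization.mk' _ a (⟨s, hs⟩ : p.primeCompl), mul_left_cancel₀ (b := ι _)
      (show g s ≠ 0 from fun h => hs ?_) ?_⟩
    · rw [map_eq_zero_iff _ (IsFractionRing.injective A (FractionRing A))] at h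
      exact h ▸ p.zero_mem
    · show g s * _ = g s * x
      rw [← hι, ← map_mul]
      rw [show f s * IsLocalization.mk' (Localization.AtPrime p) a (⟨s, hs⟩ : p.primeCompl) = f a from
        IsLocalization.mk'_spec' (Localization.AtPrime p) a (⟨s, hs⟩ : p.primeCompl), hι, hι]
      exact ha
  have hunit : ∀ y : p.primeCompl,
      IsUnit (algebraMap A (FractionRing (A ⧸ p)) (y : A)) := fun y => by
    rw [isUnit_iff_ne_zero, IsScalarTower.algebraMap_apply A (A ⧸ p), Ne,
      map_eq_zero_iff _ (IsFractionRing.injective (A ⧸ p) _)]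
    exact fun h => y.2 (Ideal.Quotient.eq_zero_iff_mem.1 h)
  let ψ : Localization.AtPrime p →ₐ[A] FractionRing (A ⧸ p) :=
    { IsLocalization.lift (g := algebraMap A (FractionRing (A ⧸ p))) hunit with
      commutes' := fun a => IsLocalization.lift_eq hunit a }
  have hker : ∀ y, ψ y = 0 → y ∈ maximalIdeal (Localization.AtPrime p) := fun y hy hu =>
    (hu.map ψ).ne_zero hy
  have hdec : ∀ x ∈ B, ∃ c : A, ∃ b ∈ B, x = g c + g t * b := by
    intro x hx
    obtain ⟨y, rfl⟩ := hBp x hx
    have h1 : IsIntegral A (ι y) := by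
      have := (IsIntegral.of_finite A (⟨ι y, hx⟩ : B)).map B.val
      exact this
    have h2 : IsIntegral A y :=
      (isIntegral_algHom_iff (IsScalarTower.toAlgHom A (Localization.AtPrime p) (FractionRing A)) hιinj).1 h1
    have h3 : IsIntegral (A ⧸ p) (ψ y) := (h2.map ψ).tower_top
    obtain ⟨c', hc'⟩ := IsIntegrallyClosed.algebraMap_eq_of_integral h3
    obtain ⟨c, rfl⟩ := Ideal.Quotient.mk_surjective c'
    have h4 : ψ (y - f c) = 0 := by
      rw [map_sub, ψ.commutes, sub_eq_zero, ← hc', IsScalarTower.algebraMap_apply A (A ⧸ p)]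
      rfl
    obtain ⟨z, hz⟩ := Ideal.mem_span_singleton'.1 (hgen ▸ hker _ h4)
    have h5 : ι y = g c + g t * ι z := by
      rw [← hι, ← hι, ← map_mul, ← map_add, mul_comm, show z * f t = _ from hz, add_sub_cancel]
    refine ⟨c, ι z, hdiv z ?_, h5⟩
    have := sub_mem hx (B.algebraMap_mem c)
    rwa [h5, add_sub_cancel_left] at this
  have hsub : ∀ x ∈ B, x ∈ Set.range g := by
    have hfg : (Subalgebra.toSubmodule B).FG := Module.Finite.iff_fg.1 hBfin
    have hle : Subalgebra.toSubmodule B ≤ (1 : Submodule A (FractionRing A)) := by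
      refine Submodule.le_of_le_smul_of_le_jacobson_bot hfg (I := maximalIdeal A)
        (maximalIdeal_le_jacobson ⊥) fun x hx => ?_
      obtain ⟨c, b, hb, rfl⟩ := hdec x hx
      refine Submodule.add_mem_sup ⟨c, (Algebra.algebraMap_eq_smul_one c).symm.trans rfl⟩ ?_
      show g t * b ∈ _
      rw [← Algebra.smul_def]
      exact Submodule.smul_mem_smul htm hb
    intro x hx
    exact Submodule.mem_one.1 (hle hx)
  refine ⟨fun x hx => hsub x (by rw [← SetLike.mem_coe, hB]; exact hx), le_antisymm (fun a ha => ?_)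
    ((Ideal.span_singleton_le_iff_mem _).2 (mem_p hp))⟩
  have hfa : f a ∈ maximalIdeal (Localization.AtPrime p) :=
    (IsLocalization.AtPrime.to_map_mem_maximal_iff (Localization.AtPrime p) p a).2 ha
  obtain ⟨z, hz⟩ := Ideal.mem_span_singleton'.1 (hgen ▸ hfa)
  have h6 : g a = g t * ι z := by rw [← hι, ← hι, ← map_mul, mul_comm, show z * f t = _ from hz]
  obtain ⟨b, hb⟩ := hsub _ (hdiv z (h6 ▸ B.algebraMap_mem a))
  refine Ideal.mem_span_singleton'.2 ⟨b, IsFractionRing.injective A (FractionRing A) ?_⟩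
  show g (b * t) = g a
  rw [map_mul, h6, hb, mul_comm]

end Hull

/-- Over a prime `M` with `ht M = 2` containing `p = tA` with `A/p` normal of height one at `M`, the local ring is regular. -/
theorem isRegular_at {M : Ideal A} [M.IsPrime] (hspan : p = Ideal.span {t}) [IsIntegrallyClosed (A ⧸ p)]
    (hpM : p ≤ M) (h1 : (M.map (Ideal.Quotient.mk p)).height = 1) (h2 : M.height = 2) :
    IsRegularLocalRing (Localization.AtPrime M) := by
  haveI hM' : (M.map (Ideal.Quotient.mk p)).IsPrime :=
    Ideal.map_isPrime_of_surjective Ideal.Quotient.mk_surjective (by rw [Ideal.mk_ker]; exact hpM)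
  generalize hN : M.map (Ideal.Quotient.mk p) = N at h1 hM'
  let R := Localization.AtPrime N
  haveI : IsIntegrallyClosed R :=
    isIntegrallyClosed_of_isLocalization R N.primeCompl N.primeCompl_le_nonZeroDivisors
  haveI : IsNoetherianRing R := IsLocalization.isNoetherianRing N.primeCompl R inferInstance
  have hdimR : (maximalIdeal R).height = 1 := by
    have := IsLocalization.AtPrime.ringKrullDim_eq_height N R
    rw [← maximalIdeal_height_eq_ringKrullDim, h1] at this
    exact_mod_cast this
  have hprinc : (maximalIdeal R).IsPrincipal := by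
    have htfae : (IsIntegrallyClosed R ∧ ∀ P : Ideal R, P ≠ ⊥ → P.IsPrime → P = maximalIdeal R) ↔
        (maximalIdeal R).IsPrincipal := (tfae_of_isNoetherianRing_of_isLocalRing_of_isDomain (R := R)).out 3 4
    refine htfae.1 ⟨inferInstance, fun P hP hPp => ?_⟩
    refine Ideal.eq_of_le_of_height_le _ (le_maximalIdeal hPp.ne_top) ?_
    rw [hdimR]
    exact Order.one_le_iff_ne_zero.2 fun h => hP (Ideal.height_eq_zero_iff_eq_bot.1 h)
  obtain ⟨g, hg⟩ := hprinc.principal
  rw [Ideal.submodule_span_eq] at hg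
  obtain ⟨⟨ū, s⟩, hus⟩ := IsLocalization.surj N.primeCompl g
  obtain ⟨u, rfl⟩ := Ideal.Quotient.mk_surjective ū
  have hg' : maximalIdeal R = Ideal.map (algebraMap (A ⧸ p) R) (Ideal.span {Ideal.Quotient.mk p u}) := by
    rw [Ideal.map_span, Set.image_singleton, hg, ← hus, Ideal.span_singleton_mul_right_unit
      (IsLocalization.map_units R s)]
  have huN : Ideal.Quotient.mk p u ∈ N := by
    rw [← IsLocalization.AtPrime.to_map_mem_maximal_iff R N, hg']
    exact Ideal.mem_map_of_mem _ (Ideal.mem_span_singleton_self _)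
  subst hN
  have huM : u ∈ M := by
    rw [Ideal.mem_map_iff_of_surjective _ Ideal.Quotient.mk_surjective] at huN
    obtain ⟨m, hm, hmu⟩ := huN
    have h3 := hpM (Ideal.Quotient.eq.1 hmu)
    simpa using M.sub_mem hm h3
  refine IsRegularLocalRing.of_spanFinrank_maximalIdeal_le _ ?_
  let S := Localization.AtPrime M
  have hS : maximalIdeal S = Ideal.span {algebraMap A S t, algebraMap A S u} := by
    refine le_antisymm ?_ (Ideal.span_le.2 ?_)
    · rw [← IsLocalization.AtPrime.map_eq_maximalIdeal M S, Ideal.map_le_iff_le_comap]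
      intro m hm
      have hmR : algebraMap (A ⧸ p) R (Ideal.Quotient.mk p m) ∈
          Ideal.map (algebraMap (A ⧸ p) R) (Ideal.span {Ideal.Quotient.mk p u}) := by
        rw [← hg', IsLocalization.AtPrime.to_map_mem_maximal_iff R (M.map (Ideal.Quotient.mk p))]
        exact Ideal.mem_map_of_mem _ hm
      rw [IsLocalization.algebraMap_mem_map_algebraMap_iff (M := (M.map (Ideal.Quotient.mk p)).primeCompl)] at hmR
      obtain ⟨s', hs', hs''⟩ := hmR
      obtain ⟨c', hc'⟩ := Ideal.mem_span_singleton'.1 hs''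
      obtain ⟨σ, rfl⟩ := Ideal.Quotient.mk_surjective s'
      obtain ⟨c, rfl⟩ := Ideal.Quotient.mk_surjective c'
      rw [← map_mul, ← map_mul, Ideal.Quotient.eq, hspan, Ideal.mem_span_singleton'] at hc'
      obtain ⟨r, hr⟩ := hc'
      have hσ : σ ∈ M.primeCompl := fun h => hs' (Ideal.mem_map_of_mem _ h)
      rw [Ideal.mem_comap]
      rw [← Ideal.unit_mul_mem_iff_mem _ (IsLocalization.map_units S (⟨σ, hσ⟩ : M.primeCompl))]
      refine Ideal.mem_span_pair.2 ⟨algebraMap A S (-r), algebraMap A S c, ?_⟩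
      rw [← map_mul, ← map_mul, ← map_add, ← map_mul]
      exact congrArg _ (by show -r * t + c * u = σ * m; linear_combination -hr)
    · intro x hx
      simp only [Set.mem_insert_iff, Set.mem_singleton_iff] at hx
      rcases hx with rfl | rfl
      · exact (IsLocalization.AtPrime.to_map_mem_maximal_iff S M t).2
          (hpM (hspan ▸ Ideal.mem_span_singleton_self t))
      · exact (IsLocalization.AtPrime.to_map_mem_maximal_iff S M u).2 huM
  rw [IsLocalization.AtPrime.ringKrullDim_eq_height M (Localization.AtPrime M), h2]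
  show ((maximalIdeal S).spanFinrank : WithBot ℕ∞) ≤ _
  rw [hS]
  exact_mod_cast ((Submodule.spanFinrank_span_le_ncard_of_finite (Set.toFinite _)).trans
    ((Set.ncard_insert_le _ _).trans_eq (by rw [Set.ncard_singleton])))

theorem isIntegrallyClosed_of_hull [IsDomain A] (hcat : CAlg.IsCatenary A) (heq : IsEquidim A)
    (hreg : t ∈ A⁰) (htm : t ∈ maximalIdeal A) (hp : (Ideal.span {t}).minimalPrimes = {p})
    (hgen : maximalIdeal (Localization.AtPrime p) = Ideal.span {algebraMap A (Localization.AtPrime p) t})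
    [IsIntegrallyClosed (A ⧸ p)] (hspan : p = Ideal.span {t})
    (hhull : heightOneHull A ⊆ Set.range (algebraMap A (FractionRing A))) : IsIntegrallyClosed A := by
  refine (isIntegrallyClosed_iff (FractionRing A)).2 fun {x} hx => hhull fun P hP hP1 => ?_
  suffices key : ∃ (M : Ideal A) (_ : M.IsPrime), P ≤ M ∧ IsRegularLocalRing (Localization.AtPrime M) by
    obtain ⟨M, hMp, hPM, hR⟩ := key
    haveI : IsIntegrallyClosed (Localization.AtPrime M) :=
      NormalLib.isIntegrallyClosed_of_isRegularLocalRing _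
    obtain ⟨y, hy⟩ := IsIntegrallyClosed.algebraMap_eq_of_integral
      (hx.tower_top (A := Localization.AtPrime M))
    obtain ⟨⟨a, s⟩, has⟩ := IsLocalization.surj M.primeCompl y
    refine ⟨s, fun h => s.2 (hPM h), a, ?_⟩
    rw [IsScalarTower.algebraMap_apply A (Localization.AtPrime M) (FractionRing A) a, ← has, map_mul,
      ← IsScalarTower.algebraMap_apply, hy, mul_comm]
  by_cases htP : t ∈ P
  · haveI : p.FiniteHeight := inferInstance
    obtain rfl : p = P := Ideal.eq_of_le_of_height_le _ (p_le hp htP) (by rw [height_p hreg hp, hP1])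
    exact ⟨p, inferInstance, le_rfl, isRegular_localization_p hreg hp hgen⟩
  obtain ⟨M, hM, -⟩ := Ideal.exists_minimalPrimes_le (I := P ⊔ Ideal.span {t}) (J := maximalIdeal A)
    (sup_le (le_maximalIdeal hP.ne_top) ((Ideal.span_singleton_le_iff_mem _).2 htm))
  haveI : M.IsPrime := hM.1.1
  have hpM : p ≤ M := p_le hp (hM.1.2 (Ideal.mem_sup_right (Ideal.mem_span_singleton_self t)))
  refine ⟨M, inferInstance, le_sup_left.trans hM.1.2, ?_⟩
  haveI : (M.map (Ideal.Quotient.mk p)).IsPrime :=
    Ideal.map_isPrime_of_surjective Ideal.Quotient.mk_surjective (by rw [Ideal.mk_ker]; exact hpM)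
  obtain ⟨d, hd⟩ := CommAlgDim.exists_ringKrullDim_eq (R := A)
  obtain ⟨m, hm⟩ := exists_dim M
  obtain ⟨n, hn⟩ := exists_dim P
  obtain ⟨l, hl⟩ := exists_dim p
  obtain ⟨h, hh⟩ := exists_height M
  haveI := Ideal.Quotient.nontrivial_iff.2 (Ideal.IsPrime.ne_top (I := p) inferInstance)
  haveI : IsLocalRing (A ⧸ p) := EGA4.isLocalRing_quotient A p
  obtain ⟨h', hh'⟩ := exists_height (M.map (Ideal.Quotient.mk p))
  have e1 := dim_succ hcat htP hM hm hn
  have e2 := dim_add_height (h := 1) heq hcat hn (by rw [hP1, Nat.cast_one]) hd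
  have e3 := dim_add_height (h := 1) heq hcat hl (by rw [height_p hreg hp, Nat.cast_one]) hd
  have e4 := dim_add_height heq hcat hm hh hd
  have e5 := dim_quotient_add_height hcat hpM hm hh' hl
  refine isRegular_at hspan hpM ?_ ?_
  · rw [hh', show h' = 1 by omega, Nat.cast_one]
  · rw [hh, show h = 2 by omega]; rfl

theorem main (hcat : CAlg.IsCatenary A) [IsReduced A] (heq : IsEquidim A)
    (hfin : ∀ (q : Ideal A) [q.IsPrime], q ∈ minimalPrimes A → HeightOneHullFinite (A ⧸ q))
    (htm : t ∈ maximalIdeal A) (hreg : t ∈ A⁰) (hp : (Ideal.span {t}).minimalPrimes = {p})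
    (hgen : maximalIdeal (Localization.AtPrime p) = Ideal.span {algebraMap A (Localization.AtPrime p) t})
    [IsIntegrallyClosed (A ⧸ p)] : IsDomain A ∧ IsIntegrallyClosed A ∧ p = Ideal.span {t} := by
  haveI := isDomain hcat heq hreg htm hp hgen
  have hbot : (⊥ : Ideal A) ∈ minimalPrimes A := ⟨⟨Ideal.isPrime_bot, bot_le⟩, fun _ _ _ => bot_le⟩
  have h1 := hullFinite_of_ringEquiv (RingEquiv.quotientBot A).symm (hfin ⊥ hbot)
  obtain ⟨hhull, hspan⟩ := span_eq_and_hull hreg htm hp hgen h1
  exact ⟨inferInstance, isIntegrallyClosed_of_hull hcat heq hreg htm hp hgen hspan hhull, hspan⟩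

end HironakaAux
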